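import Mathlib

/-!
The arithmetic of the block equation.
-/

set_option autoImplicit false

namespace H4.Eleven

theorem block_table : ∀ d < 71, ∀ b < 8, 45 * (b * b) ≤ 39 * d →
    (d * (d + 1)) % (9 * (b + d) * (b + d) - 11 * d * (d + 1)) = 0 →
    ((d * (d + 1)) / (9 * (b + d) * (b + d) - 11 * d * (d + 1))) % 10 = 1 →
    (d * (d + 1)) / (9 * (b + d) * (b + d) - 11 * d * (d + 1)) = 1 := by
  decide +kernel

theorem block_arith {u d : ℕ} {a : ℤ} (hd : 0 < d) (hodd : Odd u) (hu5 : u % 5 = 1)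
    (heq : (1 + 11 * (u : ℤ)) * d * (d + 1) = 9 * u * (a - d) ^ 2)
    (hb : 45 * a ^ 2 ≤ 39 * (d : ℤ)) : u = 1 := by
  have hu10 : u % 10 = 1 := by
    obtain ⟨m, rfl⟩ := hodd
    omega
  have hu : 0 < (u : ℤ) := by exact_mod_cast hodd.pos
  have hd' : 0 < (d : ℤ) := by exact_mod_cast hd
  have h11 : 11 * (d : ℤ) * (d + 1) < 9 * (a - d) ^ 2 := by
    have : 0 < (u : ℤ) * (9 * (a - d) ^ 2 - 11 * d * (d + 1)) := by
      have : (u : ℤ) * (9 * (a - d) ^ 2 - 11 * d * (d + 1)) = d * (d + 1) := by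
        linear_combination -heq
      rw [this]; positivity
    have := pos_of_mul_pos_right this hu.le
    linarith
  have ha : a < 0 := by nlinarith
  have hd71 : d < 71 := by
    by_contra h
    have h' : (71 : ℤ) ≤ d := by exact_mod_cast not_lt.1 h
    nlinarith
  obtain ⟨b, rfl⟩ : ∃ b : ℕ, a = -(b : ℤ) := ⟨a.natAbs, by omega⟩
  have hb' : 45 * (b * b) ≤ 39 * d := by
    have : (45 : ℤ) * ((b : ℤ) * b) ≤ 39 * d := by linarith [show (-(b : ℤ)) ^ 2 = b * b by ring]
    exact_mod_cast this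
  have hb8 : b < 8 := by
    by_contra h
    have h8 : 8 * 8 ≤ b * b := Nat.mul_le_mul (not_lt.1 h) (not_lt.1 h)
    omega
  have heq' : (u : ℕ) * (9 * (b + d) * (b + d) - 11 * d * (d + 1)) = d * (d + 1) := by
    have e : (1 + 11 * u) * d * (d + 1) = 9 * u * (b + d) * (b + d) := by
      have : (1 + 11 * (u : ℤ)) * d * (d + 1) = 9 * u * (b + d) * (b + d) := by
        rw [heq]; ring
      exact_mod_cast this
    rw [Nat.mul_sub, Nat.sub_eq_iff_eq_add]
    · rw [show u * (9 * (b + d) * (b + d)) = 9 * u * (b + d) * (b + d) by ring, ← e]; ring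
    · rw [show u * (9 * (b + d) * (b + d)) = 9 * u * (b + d) * (b + d) by ring, ← e]; nlinarith
  have hk : 0 < 9 * (b + d) * (b + d) - 11 * d * (d + 1) := by
    rcases Nat.eq_zero_or_pos (9 * (b + d) * (b + d) - 11 * d * (d + 1)) with h | h
    · rw [h, mul_zero] at heq'
      have : 0 < d * (d + 1) := by positivity
      omega
    · exact h
  have := block_table d hd71 b hb8 hb'
  rw [← heq', Nat.mul_mod_left, Nat.mul_div_cancel _ hk] at this
  exact this rfl hu10

end H4.Eleven
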