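import Cfsg.Agent.H24.CharBasic
import Cfsg.Agent.H13.PermChar

/-!
Characters summed over products of two involutions of one class.
-/

set_option autoImplicit false
set_option linter.unusedSectionVars false

open Cfsg

namespace H4.Eleven

universe u v

variable {X : Type u} [Group X] [Fintype X]

theorem irr_apply_involution (χ : IrrCharacter X) {w : X} (hw : orderOf w = 2) :
    ∃ n : ℤ, (χ : X → ℂ) w = (n : ℂ) := by
  classical
  obtain ⟨d, ρ, hρ, hχ⟩ := χ.2
  obtain ⟨μ, h1, h2, -⟩ := H12.exists_char_eigenvalues ρ w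
  have h1' : ∀ i, μ i = 1 ∨ μ i = -1 := fun i => by
    have := h1 i
    rw [hw] at this
    exact sq_eq_one_iff.1 this
  refine ⟨∑ i, if μ i = 1 then (1 : ℤ) else -1, ?_⟩
  rw [show (χ : X → ℂ) w = ∑ i, μ i by rw [← hχ]; simpa using h2 1]
  push_cast
  refine Finset.sum_congr rfl fun i _ => ?_
  rcases h1' i with h | h <;> norm_num [h]

open scoped Classical in
/-- The conjugacy class of `w`. -/
noncomputable def cls (w : X) : Finset X := Finset.univ.filter (IsConj w)

theorem mem_cls {w g : X} : g ∈ cls w ↔ IsConj w g := by simp [cls]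

theorem card_cls (w : X) : (cls w).card = Nat.card {g : X // IsConj w g} := by
  classical
  rw [Nat.card_eq_fintype_card, Fintype.card_subtype]
  rfl

theorem cls_conj {w : X} : ∀ g ∈ cls w, ∀ c : X, c * g * c⁻¹ ∈ cls w := fun _ hg c =>
  mem_cls.2 ((mem_cls.1 hg).trans (isConj_iff.2 ⟨c, rfl⟩))

theorem sum_cls_irr (χ : IrrCharacter X) (w : X) :
    ∑ a ∈ cls w, ∑ b ∈ cls w, (χ : X → ℂ) (a * b) =
      ((cls w).card : ℂ) ^ 2 * ((χ : X → ℂ) w) ^ 2 / (χ : X → ℂ) 1 := by
  have h : ∀ a ∈ cls w, (χ : X → ℂ) a = (χ : X → ℂ) w := fun a ha =>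
    (H12.IsClassFunction.of_isConj (H12.irr_isClassFunction χ) (mem_cls.1 ha)).symm
  rw [H24.sum_class_prod χ _ _ cls_conj cls_conj, Finset.sum_congr rfl h, Finset.sum_const,
    nsmul_eq_mul]
  ring

/-- A character summed over the products of a class of involutions: the contributions of two
constituents bound it from below. -/
theorem sum_cls_char_ge {φ : X → ℂ} (hφ : IsCharacter X φ) {w : X} (hw : orderOf w = 2)
    {χ ψ : IrrCharacter X} (hne : χ ≠ ψ) {S : ℝ}
    (hS : ∑ a ∈ cls w, ∑ b ∈ cls w, φ (a * b) = (S : ℂ))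
    (hχ : classInner φ χ ≠ 0) (hψ : classInner φ ψ ≠ 0) {a c : ℤ} {d e : ℕ}
    (ha : (χ : X → ℂ) w = a) (hd : (χ : X → ℂ) 1 = d)
    (hc : (ψ : X → ℂ) w = c) (he : (ψ : X → ℂ) 1 = e) :
    ((cls w).card : ℝ) ^ 2 * ((a : ℝ) ^ 2 / d + (c : ℝ) ^ 2 / e) ≤ S := by
  classical
  obtain ⟨m, hm⟩ := H12.IsCharacter.exists_mult hφ
  have hval : ∀ θ : IrrCharacter X, ∃ n : ℤ, (θ : X → ℂ) w = (n : ℂ) :=
    fun θ => irr_apply_involution θ hw
  choose n hn using hval
  set J : ℝ := ((cls w).card : ℝ) with hJdef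
  let r : IrrCharacter X → ℝ := fun θ =>
    (m θ : ℝ) * (J ^ 2 * (n θ : ℝ) ^ 2 / (H12.degree (θ : X → ℂ) : ℝ))
  have hsum : S = ∑ θ, r θ := by
    have : (S : ℂ) = ((∑ θ, r θ : ℝ) : ℂ) := by
      rw [← hS, hm]
      simp only [Finset.sum_apply, Pi.smul_apply, smul_eq_mul]
      rw [Finset.sum_congr rfl fun a _ => Finset.sum_comm, Finset.sum_comm]
      simp only [← Finset.mul_sum, sum_cls_irr]
      push_cast [r, hJdef]
      refine Finset.sum_congr rfl fun θ _ => ?_
      rw [hn, H12.irr_apply_one]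
    exact_mod_cast this
  have hr : ∀ θ, 0 ≤ r θ := fun θ => by positivity
  have hmult : ∀ θ : IrrCharacter X, classInner φ θ ≠ 0 → (1 : ℝ) ≤ m θ := fun θ h => by
    have hθ : classInner φ θ = (m θ : ℂ) := by
      rw [hm, H12.classInner_sum_smul_irr]
    rw [hθ, Nat.cast_ne_zero] at h
    exact_mod_cast Nat.one_le_iff_ne_zero.2 h
  have hone : ∀ (θ : IrrCharacter X) (x : ℤ) (k : ℕ), classInner φ θ ≠ 0 → (θ : X → ℂ) w = x →
      (θ : X → ℂ) 1 = k → J ^ 2 * (x : ℝ) ^ 2 / k ≤ r θ := by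
    intro θ x k h hx hk
    rw [hn, Int.cast_inj] at hx
    rw [H12.irr_apply_one, Nat.cast_inj] at hk
    subst hx hk
    exact le_mul_of_one_le_left (by positivity) (hmult θ h)
  have h1 := hone χ a d hχ ha hd
  have h2 := hone ψ c e hψ hc he
  have h3 : r χ + r ψ ≤ ∑ θ, r θ := by
    rw [← Finset.sum_pair hne]
    exact Finset.sum_le_sum_of_subset_of_nonneg (Finset.subset_univ _) fun θ _ _ => hr θ
  rw [hsum, mul_add, ← mul_div_assoc, ← mul_div_assoc]
  linarith

variable {Ω : Type v} [MulAction X Ω] [Finite Ω]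

theorem isCharacter_fixCount :
    IsCharacter X (fun g : X => (Nat.card (MulAction.fixedBy Ω g) : ℂ)) := by
  classical
  have := Fintype.ofFinite Ω
  rw [H13.permChar_eq]
  exact H12.isCharacter_character _

/-- The fixed points of products of two members of a class of involutions. -/
theorem sum_cls_fix {w : X} (hw : w * w = 1) :
    ∑ a ∈ cls w, ∑ b ∈ cls w, Nat.card (MulAction.fixedBy Ω (a * b)) =
      (cls w).card * Nat.card {q : Ω × X // IsConj w q.2 ∧ q.2 • q.1 = w • q.1} := by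
  classical
  have := Fintype.ofFinite Ω
  rw [← smul_eq_mul, ← Finset.sum_const]
  refine Finset.sum_congr rfl fun a ha => ?_
  obtain ⟨g, rfl⟩ := isConj_iff.1 (mem_cls.1 ha)
  have hinv : (g * w * g⁻¹)⁻¹ = g * w * g⁻¹ := by
    rw [inv_eq_iff_mul_eq_one]
    rw [show g * w * g⁻¹ * (g * w * g⁻¹) = g * (w * w) * g⁻¹ by group, hw, mul_one, mul_inv_cancel]
  have hiff : ∀ (b : X) (c : Ω), (g * w * g⁻¹ * b) • c = c ↔ b • c = (g * w * g⁻¹) • c := by
    intro b c
    rw [mul_smul, smul_eq_iff_eq_inv_smul, hinv]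
  have e : {q : Ω × X // IsConj w q.2 ∧ q.2 • q.1 = w • q.1} ≃
      (Σ b : {b : X // b ∈ cls w}, MulAction.fixedBy Ω (g * w * g⁻¹ * b.1)) :=
    { toFun := fun q => ⟨⟨g * q.1.2 * g⁻¹, cls_conj _ (mem_cls.2 q.2.1) g⟩,
        ⟨g • q.1.1, MulAction.mem_fixedBy.2 ((hiff _ _).2 (by
          simp only [mul_smul, inv_smul_smul, q.2.2]))⟩⟩
      invFun := fun s => ⟨(g⁻¹ • s.2.1, g⁻¹ * s.1.1 * g), by
        refine ⟨(mem_cls.1 s.1.2).trans (isConj_iff.2 ⟨g⁻¹, by simp⟩), ?_⟩
        have := (hiff _ _).1 (MulAction.mem_fixedBy.1 s.2.2)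
        simp only [mul_smul, smul_inv_smul, this, inv_smul_smul]⟩
      left_inv := fun q => by
        apply Subtype.ext
        simp [mul_assoc]
      right_inv := fun s => by
        obtain ⟨⟨b, hb⟩, c, hc⟩ := s
        have hb' : g * (g⁻¹ * b * g) * g⁻¹ = b := by simp [mul_assoc]
        refine Sigma.subtype_ext (Subtype.ext hb') ?_
        simp }
  rw [Nat.card_congr e, Nat.card_sigma, Finset.sum_coe_sort (cls w)
    (fun b => Nat.card (MulAction.fixedBy Ω (g * w * g⁻¹ * b)))]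

theorem classInner_fix_one (htrans : ∀ a b : Ω, ∃ g : X, g • a = b) [Nonempty Ω] :
    classInner (fun g : X => (Nat.card (MulAction.fixedBy Ω g) : ℂ)) (fun _ => 1) = 1 := by
  classical
  have := Fintype.ofFinite Ω
  have : Unique (MulAction.orbitRel.Quotient X Ω) :=
    { default := Quotient.mk'' (Classical.arbitrary Ω)
      uniq := fun x => Quotient.inductionOn' x fun y => Quotient.sound' (by
        rw [MulAction.orbitRel_apply]
        obtain ⟨g, hg⟩ := htrans (Classical.arbitrary Ω) y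
        exact ⟨g, hg⟩) }
  have h := MulAction.sum_card_fixedBy_eq_card_orbits_mul_card_group X Ω
  rw [Fintype.card_unique, one_mul] at h
  simp only [classInner, map_one, mul_one, Nat.card_eq_fintype_card]
  rw [← Nat.cast_sum, h, inv_mul_cancel₀]
  exact_mod_cast Fintype.card_ne_zero

end H4.Eleven
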