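import Cfsg.Agent.H63.Eleven.Coprime
import Cfsg.Agent.H2.FrobeniusKernel
import Cfsg.Agent.H83.FixedPointFormula

/-!
The regular normal subgroup of a point stabiliser in case A: the centraliser of the point modulo
the point is a Frobenius group with the two-point centraliser as complement.
-/

set_option autoImplicit false

namespace H4.ElevenKernel

open H63.Eleven

universe u v

variable {G : Type u} {Ω : Type v} [Group G] [Finite G] [MulAction G Ω] (A : ACore G Ω)

include A in
omit [Finite G] in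
theorem exists_ne_point (a : Ω) : ∃ b : Ω, a ≠ b := by
  by_contra hall
  push Not at hall
  haveI : Subsingleton Ω := ⟨fun x y => (hall x).symm.trans (hall y)⟩
  haveI : Finite Ω := Finite.of_subsingleton
  have h1 : Nat.card Ω ≤ 1 := Finite.card_le_one_iff_subsingleton.2 inferInstance
  rw [A.card_points] at h1
  have := A.one_lt_u
  omega

theorem v_pos (a : Ω) : 0 < A.v := by
  obtain ⟨b, hab⟩ := exists_ne_point A a
  rw [← A.card_V a b hab]
  exact Nat.card_pos

theorem coprime_u_v : Nat.Coprime A.u A.v := by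
  have h : A.v ∣ A.u - 1 := (dvd_mul_left A.v 5).trans A.five_v_dvd
  refine Nat.Coprime.coprime_dvd_right h ?_
  have h1 := A.one_lt_u
  have h2 : A.u = (A.u - 1) + 1 := by omega
  rw [h2, Nat.add_sub_cancel]
  exact Nat.coprime_self_add_left.2 (Nat.coprime_one_left _)

omit [Finite G] in
theorem smul_fix {a : Ω} {g : G} (hg : g ∈ A.W a) : g • a = a := A.W_le a hg

omit [Finite G] in
theorem P_conj_mem {a : Ω} {g p : G} (hg : g • a = a) (hp : p ∈ A.P a) :
    g * p * g⁻¹ ∈ A.P a := by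
  have h := A.P_conj g a
  rw [hg] at h
  rw [h, mem_cj]
  simpa [mul_assoc] using hp

/-- A conjugate of a two-point centraliser meets it only inside the point. -/
theorem frob_mem {a b : Ω} (hab : a ≠ b) {g x y p : G} (hg : g ∈ A.W a) (hx : x ∈ A.W a)
    (hxb : x • b = b) (hx1 : x ≠ 1) (hy : y ∈ A.W a) (hyb : y • b = b) (hp : p ∈ A.P a)
    (he : g * x * g⁻¹ = y * p) : ∃ q ∈ A.P a, (g⁻¹ * q) • b = b := by
  have hga : g⁻¹ • a = a := smul_fix A ((A.W a).inv_mem hg)
  have hac : a ≠ g⁻¹ • b := fun h => hab (MulAction.injective g⁻¹ (hga.trans h))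
  have hd : (y * p) • b ∈ A.line a b := by
    rw [mul_smul]
    have hpb := A.P_line a b p hab hp
    by_cases hy1 : y = 1
    · rw [hy1, one_smul]; exact hpb
    · rwa [(A.V_fix a b y hab hy hyb hy1 _).2 hpb]
  have hline : A.line a (g⁻¹ • b) = (fun c => g⁻¹ • c) '' A.line a b := by
    conv_lhs => rw [← hga]
    exact A.line_smul g⁻¹ a b hab
  have hxc : x • g⁻¹ • b ∈ A.line a (g⁻¹ • b) := by
    rw [hline]
    refine ⟨_, hd, ?_⟩
    show g⁻¹ • (y * p) • b = _
    rw [← he, ← mul_smul, ← mul_smul]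
    congr 1
    group
  have hcl : g⁻¹ • b ∈ A.line a b := by
    by_contra h
    exact A.not_second ⟨a, b, g⁻¹ • b, x, hab, hac, hx, hxb, hx1, hxc, h⟩
  exact A.line_stab a b g⁻¹ hab ((A.W a).inv_mem hg) hcl

/-- The centraliser of a point modulo the point has a normal subgroup of order `u`. -/
theorem exists_normal (a : Ω) [hn : ((A.P a).subgroupOf (A.W a)).Normal] :
    ∃ N : Subgroup (↥(A.W a) ⧸ (A.P a).subgroupOf (A.W a)),
      N.Normal ∧ Nat.card N = A.u ∧ N.index = A.v := by
  classical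
  set Q := ↥(A.W a) ⧸ (A.P a).subgroupOf (A.W a)
  have hQ : Nat.card Q = A.u * A.v := by
    have h := Subgroup.card_eq_card_quotient_mul_card_subgroup ((A.P a).subgroupOf (A.W a))
    rw [A.card_W, Nat.card_congr (Subgroup.subgroupOfEquivOfLe (A.P_le a)).toEquiv, A.card_P] at h
    refine Nat.eq_of_mul_eq_mul_right (show 0 < 11 by norm_num) ?_
    rw [← h]; ring
  by_cases hv1 : A.v = 1
  · refine ⟨⊤, inferInstance, ?_, by rw [Subgroup.index_top, hv1]⟩
    rw [Subgroup.card_top, hQ, hv1, mul_one]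
  obtain ⟨b, hab⟩ := exists_ne_point A a
  set π := QuotientGroup.mk' ((A.P a).subgroupOf (A.W a))
  let Vs : Subgroup ↥(A.W a) :=
    (A.W a ⊓ MulAction.stabilizer G b).subgroupOf (A.W a)
  have hinj : Function.Injective (π.comp Vs.subtype) := by
    rw [injective_iff_map_eq_one]
    intro x hx
    have hxP : ((x : ↥(A.W a)) : G) ∈ A.P a :=
      Subgroup.mem_subgroupOf.1 ((QuotientGroup.eq_one_iff _).1 hx)
    by_contra h
    refine hab (A.P_fix a b _ hxP (fun h1 => h (Subtype.ext (Subtype.ext h1))) ?_).symm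
    exact (Subgroup.mem_subgroupOf.1 x.2).2
  have hVb : Nat.card (Vs.map π) = A.v := by
    have h := Nat.card_congr (MonoidHom.ofInjective hinj).toEquiv
    rw [MonoidHom.range_comp, Subgroup.range_subtype] at h
    rw [← h, Nat.card_congr (Subgroup.subgroupOfEquivOfLe inf_le_left).toEquiv, A.card_V a b hab]
  have hF : Cfsg.IsFrobeniusComplement (Vs.map π) := by
    refine ⟨fun h => hv1 ?_, fun h => ?_, fun q hq => ?_⟩
    · rw [← hVb, h, Subgroup.card_bot]
    · have := hVb
      rw [h, Subgroup.card_top, hQ] at this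
      have h1 := A.one_lt_u
      have h2 := v_pos A a
      nlinarith
    · rw [eq_bot_iff]
      intro z hz
      obtain ⟨⟨y, hy, rfl⟩, hz2⟩ := hz
      obtain ⟨x, hx, hxe⟩ := H2.mem_conj_smul.1 hz2
      obtain ⟨g, rfl⟩ : ∃ g, π g = q := QuotientGroup.mk'_surjective _ q
      rw [Subgroup.mem_bot]
      by_contra hy1
      apply hq
      have hP : ((y⁻¹ * (g * x * g⁻¹) : ↥(A.W a)) : G) ∈ A.P a := by
        refine Subgroup.mem_subgroupOf.1 ((QuotientGroup.eq_one_iff _).1 ?_)
        show π _ = 1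
        rw [map_mul, map_mul, map_mul, map_inv, map_inv, hxe]
        group
      have hx1 : (x : G) ≠ 1 := fun h => hy1 (by
        have hx' : x = 1 := Subtype.ext h
        rw [hx', map_one] at hxe
        exact conj_eq_one_iff.1 (show (π g)⁻¹ * π y * ((π g)⁻¹)⁻¹ = 1 by rw [inv_inv]; exact hxe.symm))
      obtain ⟨p, hp, hpb⟩ := frob_mem A hab g.2 x.2 (Subgroup.mem_subgroupOf.1 hx).2 hx1 y.2
        (Subgroup.mem_subgroupOf.1 hy).2 hP (by simp)
      have hgp : g⁻¹ * ⟨p, A.P_le a hp⟩ ∈ Vs :=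
        Subgroup.mem_subgroupOf.2 ⟨(g⁻¹ * ⟨p, A.P_le a hp⟩ : ↥(A.W a)).2, hpb⟩
      have h1 : π ⟨p, A.P_le a hp⟩ = 1 :=
        (QuotientGroup.eq_one_iff _).2 (Subgroup.mem_subgroupOf.2 hp)
      have := Subgroup.mem_map_of_mem π hgp
      rw [map_mul, h1, mul_one, map_inv] at this
      simpa using (Vs.map π).inv_mem this
  obtain ⟨N, -, hN, hc⟩ := H2.exists_kernel hF
  have hidx : N.index = A.v := by rw [hc.symm.index_eq_card, hVb]
  refine ⟨N, hN, ?_, hidx⟩
  have h := N.card_mul_index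
  rw [hidx, hQ] at h
  exact Nat.eq_of_mul_eq_mul_right (v_pos A a) h

/-- The regular normal subgroup of a point stabiliser. -/
theorem exists_kernel (a : Ω) : ∃ K : Subgroup G, K ≤ A.W a ∧ A.P a ≤ K ∧
    Nat.card K = 11 * A.u ∧
    (∀ g k : G, g • a = a → k ∈ K → g * k * g⁻¹ ∈ K) ∧
    (∀ k ∈ K, k ≠ 1 → ∀ c : Ω, k • c = c → c = a) ∧ Group.IsNilpotent K := by
  classical
  obtain ⟨b, hab⟩ := exists_ne_point A a
  haveI hPn : ((A.P a).subgroupOf (A.W a)).Normal := ⟨fun p hp g =>
    Subgroup.mem_subgroupOf.2 (P_conj_mem A (smul_fix A g.2) (Subgroup.mem_subgroupOf.1 hp))⟩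
  obtain ⟨N, hN, hNc, hNi⟩ := exists_normal A a
  set π := QuotientGroup.mk' ((A.P a).subgroupOf (A.W a))
  let Kw : Subgroup ↥(A.W a) := N.comap π
  let K : Subgroup G := Kw.map (A.W a).subtype
  have hcop := coprime_u_v A
  have hmem : ∀ k : G, k ∈ K ↔ k ∈ A.W a ∧ k ^ A.u ∈ A.P a := by
    intro k
    constructor
    · rintro ⟨w, hw, rfl⟩
      refine ⟨w.2, ?_⟩
      have h1 : (π w) ^ A.u = 1 := by
        rw [← hNc]
        exact congrArg Subtype.val (pow_card_eq_one' (x := (⟨π w, hw⟩ : N)))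
      rw [← map_pow] at h1
      exact Subgroup.mem_subgroupOf.1 ((QuotientGroup.eq_one_iff _).1 h1)
    · rintro ⟨hw, hu⟩
      refine ⟨⟨k, hw⟩, ?_, rfl⟩
      show π ⟨k, hw⟩ ∈ N
      have h1 : (π ⟨k, hw⟩) ^ A.u = 1 := by
        rw [← map_pow]
        exact (QuotientGroup.eq_one_iff _).2 (Subgroup.mem_subgroupOf.2 hu)
      have h2 : (QuotientGroup.mk' N (π ⟨k, hw⟩)) ^ A.v = 1 := by
        rw [← hNi, Subgroup.index]
        exact pow_card_eq_one'
      have h3 : (QuotientGroup.mk' N (π ⟨k, hw⟩)) ^ A.u = 1 := by rw [← map_pow, h1, map_one]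
      have h4 := pow_gcd_eq_one.2 ⟨h3, h2⟩
      rw [Nat.Coprime.gcd_eq_one hcop, pow_one] at h4
      exact (QuotientGroup.eq_one_iff _).1 h4
  have hKW : K ≤ A.W a := fun k hk => ((hmem k).1 hk).1
  have hPK : A.P a ≤ K := fun k hk => (hmem k).2 ⟨A.P_le a hk, (A.P a).pow_mem hk _⟩
  have hcard : Nat.card K = 11 * A.u := by
    have h1 : Nat.card K = Nat.card Kw :=
      (Nat.card_congr (Subgroup.equivMapOfInjective Kw _ (A.W a).subtype_injective).toEquiv).symm
    have h2 := Kw.card_mul_index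
    rw [Subgroup.index_comap_of_surjective _ (QuotientGroup.mk'_surjective _), hNi, A.card_W] at h2
    rw [h1]
    exact Nat.eq_of_mul_eq_mul_right (v_pos A a) h2
  have hinv : ∀ g k : G, g • a = a → k ∈ K → g * k * g⁻¹ ∈ K := by
    intro g k hg hk
    obtain ⟨h1, h2⟩ := (hmem k).1 hk
    refine (hmem _).2 ⟨?_, ?_⟩
    · have := A.W_conj g k a h1
      rwa [hg] at this
    · rw [conj_pow]
      exact P_conj_mem A hg h2
  have hsemi : ∀ k ∈ K, k ≠ 1 → ∀ c : Ω, k • c = c → c = a := by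
    intro k hk hk1 c hc
    by_contra hca
    obtain ⟨h1, h2⟩ := (hmem k).1 hk
    have hpow : ∀ n : ℕ, (k ^ n) • c = c := fun n =>
      (MulAction.stabilizer G c).pow_mem (MulAction.mem_stabilizer_iff.2 hc) n
    have h3 : k ^ A.u = 1 := by
      by_contra h
      exact hca (A.P_fix a c _ h2 h (hpow _))
    have h4 : k ^ A.v = 1 := by
      rw [← A.card_V a c (Ne.symm hca)]
      exact congrArg Subtype.val (pow_card_eq_one'
        (x := (⟨k, h1, hc⟩ : ↥(A.W a ⊓ MulAction.stabilizer G c))))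
    have h5 := pow_gcd_eq_one.2 ⟨h3, h4⟩
    rw [Nat.Coprime.gcd_eq_one hcop, pow_one] at h5
    exact hk1 h5
  refine ⟨K, hKW, hPK, hcard, hinv, hsemi, ?_⟩
  obtain ⟨y, hy5, hya, hyb, hyfix, -⟩ := A.exists_y a b hab
  have hy1 : y ≠ 1 := fun h => by rw [h, orderOf_one] at hy5; omega
  have hyW : y ∉ A.W a := by
    intro hy
    have hsub : A.line a b ⊆ ({a, b} : Set Ω) := fun c hc =>
      hyfix c ((A.V_fix a b y hab hy hyb hy1 c).2 hc)
    have h12 := A.line_card a b hab
    rw [Nat.card_coe_set_eq] at h12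
    have := Set.ncard_le_ncard hsub (Set.toFinite _)
    rw [Set.ncard_pair hab, h12] at this
    omega
  have hkey : ∀ k ∈ K, (y * k)⁻¹ * (k * y) ∈ A.P a → k ∈ A.P a := by
    intro k hk hp
    set p := (y * k)⁻¹ * (k * y) with hpdef
    have hka : k • a = a := smul_fix A (hKW hk)
    have hac : a ≠ k • b := fun h => hab (MulAction.injective k (hka.trans h))
    have h1 : k * y = y * k * p := by rw [hpdef]; group
    have h2 : k * p * k⁻¹ ∈ A.P a := P_conj_mem A hka hp
    have h3 : y * k * p = (y * (k * p * k⁻¹) * y⁻¹) * (y * k) := by group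
    have h4 := P_conj_mem A hya h2
    have h5 : y • k • b = (y * (k * p * k⁻¹) * y⁻¹)⁻¹ • k • b := by
      have : k • b = (y * (k * p * k⁻¹) * y⁻¹) • y • k • b := by
        conv_lhs => rw [← hyb, ← mul_smul, h1, h3]
        simp only [mul_smul]
      rw [eq_inv_smul_iff]
      exact this.symm
    have hyl : y • k • b ∈ A.line a (k • b) := by
      rw [h5]
      exact A.P_line a (k • b) _ hac ((A.P a).inv_mem h4)
    obtain ⟨d, hd, hda, hyd⟩ := A.line_fix a (k • b) y hac hya hyW hyl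
    have hdb : d = b := (hyfix d hyd).resolve_left hda
    subst hdb
    have hkb : k • d ∈ A.line a d := by
      rw [A.line_eq a (k • d) a d hac (A.line_left a _ hac) hd hab]
      exact A.line_right a _ hac
    obtain ⟨q, hq, hqb⟩ := A.line_stab a d k hab (hKW hk) hkb
    have hkq : k * q = 1 := by
      by_contra h
      exact hab (hsemi _ (K.mul_mem hk (hPK hq)) h d hqb).symm
    rw [eq_inv_of_mul_eq_one_left hkq]
    exact (A.P a).inv_mem hq
  -- the quotient of the point stabiliser by the point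
  let S := MulAction.stabilizer G a
  have hKS : K ≤ S := hKW.trans (A.W_le a)
  haveI hPS : ((A.P a).subgroupOf S).Normal := ⟨fun p hp g =>
    Subgroup.mem_subgroupOf.2 (P_conj_mem A g.2 (Subgroup.mem_subgroupOf.1 hp))⟩
  have hKn : (K.subgroupOf S).Normal := ⟨fun k hk g =>
    Subgroup.mem_subgroupOf.2 (hinv _ _ g.2 (Subgroup.mem_subgroupOf.1 hk))⟩
  set ρ := QuotientGroup.mk' ((A.P a).subgroupOf S)
  set U := (K.subgroupOf S).map ρ with hUdef
  have hUn : U.Normal := hKn.map _ (QuotientGroup.mk'_surjective _)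
  haveI : Fact (Nat.Prime 5) := ⟨by norm_num⟩
  set e := ρ ⟨y, hya⟩
  have he1 : e ≠ 1 := fun h => hyW (A.P_le a (Subgroup.mem_subgroupOf.1 ((QuotientGroup.eq_one_iff _).1 h)))
  have he5 : orderOf e = 5 := by
    refine orderOf_eq_prime ?_ he1
    have hy : (⟨y, hya⟩ : ↥S) ^ 5 = 1 := Subtype.ext (by
      show y ^ 5 = 1
      rw [← hy5, pow_orderOf_eq_one])
    show ρ _ ^ 5 = 1
    rw [← map_pow, hy, map_one]
  have hUne : U ≠ ⊥ := by
    intro h
    have : K ≤ A.P a := fun k hk => by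
      have h1 : ρ ⟨k, hKS hk⟩ ∈ U := Subgroup.mem_map_of_mem ρ (Subgroup.mem_subgroupOf.2 hk)
      rw [h, Subgroup.mem_bot] at h1
      exact Subgroup.mem_subgroupOf.1 ((QuotientGroup.eq_one_iff _).1 h1)
    have h2 := Subgroup.card_le_of_le this
    rw [hcard, A.card_P] at h2
    have := A.one_lt_u
    omega
  have hdisj : U ⊓ Subgroup.zpowers e = ⊥ := by
    rw [eq_bot_iff]
    rintro z ⟨⟨k, hk, rfl⟩, hz⟩
    have h5 : (ρ k) ^ 5 = 1 := by
      have h := pow_card_eq_one' (x := (⟨ρ k, hz⟩ : Subgroup.zpowers e))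
      rw [Nat.card_zpowers, he5] at h
      exact congrArg Subtype.val h
    have hu : (ρ k) ^ A.u = 1 := by
      rw [← map_pow]
      exact (QuotientGroup.eq_one_iff _).2 (Subgroup.mem_subgroupOf.2
        ((hmem _).1 (Subgroup.mem_subgroupOf.1 hk)).2)
    have hc : Nat.Coprime A.u 5 :=
      ((Nat.prime_five.coprime_iff_not_dvd).2 fun h => by have := A.u_mod; omega).symm
    have h1 := pow_gcd_eq_one.2 ⟨hu, h5⟩
    rw [Nat.Coprime.gcd_eq_one hc, pow_one] at h1
    exact Subgroup.mem_bot.2 h1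
  have hnil : Group.IsNilpotent U := by
    refine H83.isNilpotent_of_fpf_group hUne (fun h => he1 (Subgroup.zpowers_eq_bot.1 h)) hdisj
      (by rw [Subgroup.normalizer_eq_top]; exact le_top) ?_
    rintro f hf hf1 _ ⟨k, hk, rfl⟩ hcomm
    have hgen : e ∈ Subgroup.zpowers f := by
      have hle : Subgroup.zpowers f ≤ Subgroup.zpowers e := Subgroup.zpowers_le.2 hf
      have heq : Subgroup.zpowers f = Subgroup.zpowers e := by
        refine Subgroup.eq_of_le_of_card_ge hle ?_
        have h5 := Subgroup.card_dvd_of_le hle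
        rw [Nat.card_zpowers, Nat.card_zpowers, he5] at h5
        rw [Nat.card_zpowers, Nat.card_zpowers, he5]
        rcases (Nat.dvd_prime Nat.prime_five).1 h5 with h | h
        · exact absurd (orderOf_eq_one_iff.1 h) hf1
        · omega
      rw [heq]
      exact Subgroup.mem_zpowers e
    obtain ⟨i, hi⟩ := hgen
    have hek : e * ρ k = ρ k * e := by
      rw [← hi]
      exact (Commute.zpow_left hcomm i).eq
    refine (QuotientGroup.eq_one_iff _).2 (Subgroup.mem_subgroupOf.2 (hkey _ (Subgroup.mem_subgroupOf.1 hk) ?_))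
    have h : ρ ((⟨y, hya⟩ * k)⁻¹ * (k * ⟨y, hya⟩)) = 1 := by
      rw [map_mul, map_inv, map_mul, map_mul]
      show (e * ρ k)⁻¹ * (ρ k * e) = 1
      rw [hek, inv_mul_cancel]
    exact Subgroup.mem_subgroupOf.1 ((QuotientGroup.eq_one_iff _).1 h)
  let f := ρ.comp (K.subgroupOf S).subtype
  have hrange : f.range = U := by rw [MonoidHom.range_comp, Subgroup.range_subtype]
  haveI : Group.IsNilpotent f.range := by rw [hrange]; exact hnil
  have hker : f.rangeRestrict.ker ≤ Subgroup.center ↥(K.subgroupOf S) := by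
    intro x hx
    rw [MonoidHom.ker_rangeRestrict] at hx
    have hxP : ((x : ↥S) : G) ∈ A.P a :=
      Subgroup.mem_subgroupOf.1 ((QuotientGroup.eq_one_iff _).1 hx)
    exact Subgroup.mem_center_iff.2 fun z => Subtype.ext (Subtype.ext
      ((A.W_iff a _).1 (hKW (Subgroup.mem_subgroupOf.1 z.2)) _ hxP))
  haveI : Group.IsNilpotent ↥(K.subgroupOf S) := Subgroup.isNilpotent_of_ker_le_center f.rangeRestrict hker
  exact Group.nilpotent_of_mulEquiv (Subgroup.subgroupOfEquivOfLe hKS)

end H4.ElevenKernel
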